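import Mathlib.AlgebraicGeometry.Morphisms.FiniteType
import Mathlib.AlgebraicGeometry.Morphisms.QuasiCompact
import Mathlib.AlgebraicGeometry.OpenImmersion
import Mathlib.AlgebraicGeometry.Restrict
import Mathlib.RingTheory.Localization.AtPrime.Basic
import Mathlib.RingTheory.FiniteType
import Mathlib.RingTheory.Localization.Away.Basic
import Mathlib.AlgebraicGeometry.Properties
import Mathlib.RingTheory.LocalRing.ResidueField.Basic

/-!
# Spreading a section at the generic point of a presentation
-/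

set_option autoImplicit false
universe u

open CategoryTheory CategoryTheory.Limits AlgebraicGeometry

noncomputable section

namespace Groth.L09.RatLift

variable {k R : Type u} [Field k] [CommRing R] [IsDomain R] [Algebra k R] {n : ℕ}

/-- A map to a localised polynomial ring which is a section of the projection to the fraction field spreads to
a map to some basic open. -/
theorem exists_away_section (π : MvPolynomial (Fin n) k →ₐ[k] R) (hπ : Function.Surjective π)
    [(RingHom.ker π).IsPrime] (ψ : R →+* Localization.AtPrime (RingHom.ker π))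
    (hψk : ∀ c, ψ (algebraMap k R c) =
      algebraMap (MvPolynomial (Fin n) k) _ (algebraMap k (MvPolynomial (Fin n) k) c))
    (hψ : ∀ p, IsLocalRing.residue _ (ψ (π p)) =
      IsLocalRing.residue _ (algebraMap (MvPolynomial (Fin n) k) (Localization.AtPrime (RingHom.ker π)) p)) :
    ∃ (h : MvPolynomial (Fin n) k) (φ : R →+* Localization.Away h), π h ≠ 0 ∧
      (∀ c, φ (algebraMap k R c) =
        algebraMap (MvPolynomial (Fin n) k) _ (algebraMap k (MvPolynomial (Fin n) k) c)) ∧
      ∀ (T : Type u) [CommRing T] (j : R →+* T) (l : Localization.Away h →+* T),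
        IsUnit (j (π h)) → (∀ p, l (algebraMap _ _ p) = j (π p)) → l.comp φ = j := by
  classical
  let A := Localization.AtPrime (RingHom.ker π)
  choose p s hps using fun i => IsLocalization.exists_mk'_eq (RingHom.ker π).primeCompl (ψ (π (MvPolynomial.X i)))
  let h : MvPolynomial (Fin n) k := ∏ i, (s i : MvPolynomial (Fin n) k)
  have hh : h ∈ (RingHom.ker π).primeCompl := Submonoid.prod_mem _ fun i _ => (s i).2
  let toA : Localization.Away h →+* A := IsLocalization.Away.lift h (g := algebraMap (MvPolynomial (Fin n) k) A)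
    (IsLocalization.map_units A (⟨h, hh⟩ : (RingHom.ker π).primeCompl))
  have htoA : ∀ q, toA (algebraMap _ _ q) = algebraMap _ A q := fun q => IsLocalization.Away.lift_eq _ _ _
  have htoA' : Function.Injective toA := by
    refine (injective_iff_map_eq_zero toA).2 fun x hx => ?_
    obtain ⟨q, m, rfl⟩ := IsLocalization.exists_mk'_eq (Submonoid.powers h) x
    have := congrArg (· * toA (algebraMap _ _ (m : MvPolynomial (Fin n) k))) hx
    rw [← map_mul, IsLocalization.mk'_spec, htoA, zero_mul] at this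
    have hq : q = 0 := IsLocalization.injective A (Ideal.primeCompl_le_nonZeroDivisors (RingHom.ker π))
      (this.trans (map_zero (algebraMap (MvPolynomial (Fin n) k) A)).symm)
    rw [hq, IsLocalization.mk'_zero]
  have hu : ∀ i, IsUnit (algebraMap _ (Localization.Away h) (s i : MvPolynomial (Fin n) k)) := fun i =>
    isUnit_of_dvd_unit (map_dvd _
      (Finset.dvd_prod_of_mem (fun j => (s j : MvPolynomial (Fin n) k)) (Finset.mem_univ i)))
      (IsLocalization.Away.algebraMap_isUnit h)
  let w : Fin n → Localization.Away h := fun i => algebraMap _ _ (p i) * ↑(hu i).unit⁻¹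
  have hw : ∀ i, w i * algebraMap _ _ (s i : MvPolynomial (Fin n) k) = algebraMap _ _ (p i) := fun i => by
    simp [w, mul_assoc, IsUnit.val_inv_mul (hu i)]
  let Φ : MvPolynomial (Fin n) k →+* Localization.Away h :=
    MvPolynomial.eval₂Hom ((algebraMap _ (Localization.Away h)).comp (algebraMap k (MvPolynomial (Fin n) k))) w
  have hΦ : toA.comp Φ = ψ.comp π.toRingHom := by
    refine MvPolynomial.ringHom_ext (fun c => ?_) fun i => ?_
    · show toA (Φ (MvPolynomial.C c)) = ψ (π (algebraMap k (MvPolynomial (Fin n) k) c))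
      rw [π.commutes, hψk, MvPolynomial.eval₂Hom_C, RingHom.comp_apply, htoA]
    · refine (IsLocalization.map_units A (s i)).mul_right_cancel ?_
      show toA (Φ (MvPolynomial.X i)) * _ = ψ (π (MvPolynomial.X i)) * _
      rw [← hps, IsLocalization.mk'_spec, ← htoA, ← map_mul, ← htoA]
      simp [Φ, hw]
  have hker : RingHom.ker π.toRingHom ≤ RingHom.ker Φ := fun q hq => htoA' (by
    rw [map_zero]
    refine (congrArg (fun f => f q) hΦ).trans ?_
    show ψ (π.toRingHom q) = 0
    rw [RingHom.mem_ker.1 hq, map_zero])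
  let φ : R →+* Localization.Away h := RingHom.liftOfSurjective π.toRingHom hπ ⟨Φ, hker⟩
  have hφ : ∀ q, φ (π q) = Φ q := fun q => RingHom.liftOfRightInverse_comp_apply _ _ _ _ q
  refine ⟨h, φ, hh, fun c => ?_, fun T _ j l hj hl => ?_⟩
  · rw [← π.commutes c, hφ]
    simp [Φ, MvPolynomial.algebraMap_eq]
  · have : (l.comp φ).comp π.toRingHom = j.comp π.toRingHom := by
      refine MvPolynomial.ringHom_ext (fun c => ?_) fun i => ?_
      · show l (φ (π (MvPolynomial.C c))) = j (π (MvPolynomial.C c))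
        rw [hφ, MvPolynomial.eval₂Hom_C, RingHom.comp_apply, hl]
        rfl
      · have hπi : π (p i) = π (MvPolynomial.X i) * π (s i) := by
          have h1 : IsLocalRing.residue A (algebraMap (MvPolynomial (Fin n) k) A (MvPolynomial.X i * (s i : MvPolynomial (Fin n) k) - p i)) = 0 := by
            rw [map_sub, map_mul, ← IsLocalization.mk'_spec A (p i) (s i), hps, ← sub_mul, map_mul, map_sub,
              ← hψ (MvPolynomial.X i), sub_self, zero_mul]
          rw [IsLocalRing.residue_eq_zero_iff] at h1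
          have h2 := (IsLocalization.AtPrime.to_map_mem_maximal_iff A (RingHom.ker π) _).1 h1
          rw [RingHom.mem_ker, map_sub, map_mul, sub_eq_zero] at h2
          exact h2.symm
        have hsu : IsUnit (j (π (s i))) :=
          isUnit_of_dvd_unit (map_dvd _ (map_dvd _
            (Finset.dvd_prod_of_mem (fun j => (s j : MvPolynomial (Fin n) k)) (Finset.mem_univ i)))) hj
        refine hsu.mul_right_cancel ?_
        show l (φ (π (MvPolynomial.X i))) * _ = _
        rw [hφ, ← hl, ← map_mul]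
        show l (Φ (MvPolynomial.X i) * _) = j (π (MvPolynomial.X i)) * l _
        rw [show Φ (MvPolynomial.X i) = w i by simp [Φ], hw, hl, hl, ← map_mul, hπi]
    exact (RingHom.cancel_right hπ).1 this

/-- A local lifting property at the generic point gives a rational retraction to affine space. -/
theorem exists_retract (k : Type u) [Field k] (X : Scheme.{u}) (f : X ⟶ Spec (CommRingCat.of k)) [IsIntegral X]
    [LocallyOfFiniteType f] [QuasiCompact f]
    (h : ∃ V : X.Opens, (V : Set X).Nonempty ∧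
      ∀ (A : Type u) [CommRing A] [IsLocalRing A] [Algebra k A]
        (g : Spec (CommRingCat.of (IsLocalRing.ResidueField A)) ⟶ (V : Scheme.{u})),
        g ≫ V.ι ≫ f = Spec.map (CommRingCat.ofHom ((IsLocalRing.residue A).comp (algebraMap k A))) →
        ∃ g' : Spec (CommRingCat.of A) ⟶ (V : Scheme.{u}),
          Spec.map (CommRingCat.ofHom (IsLocalRing.residue A)) ≫ g' = g ∧
          g' ≫ V.ι ≫ f = Spec.map (CommRingCat.ofHom (algebraMap k A))) :
    ∃ (U : X.Opens) (n : ℕ) (Y : (Spec (CommRingCat.of (MvPolynomial (Fin n) k))).Opens)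
        (a : (U : Scheme.{u}) ⟶ (Y : Scheme.{u})) (b : (Y : Scheme.{u}) ⟶ (U : Scheme.{u})),
        (U : Set X).Nonempty ∧ a ≫ b = 𝟙 (U : Scheme.{u}) ∧
        a ≫ Y.ι ≫ Spec.map (CommRingCat.ofHom (algebraMap k (MvPolynomial (Fin n) k))) = U.ι ≫ f ∧
        b ≫ U.ι ≫ f = Y.ι ≫ Spec.map (CommRingCat.ofHom (algebraMap k (MvPolynomial (Fin n) k))) := by
  obtain ⟨V, ⟨x, hx⟩, hlift⟩ := h
  obtain ⟨V', hV', hxV', hle⟩ := exists_isAffineOpen_mem_and_subset (U := V) hx
  let R := Γ(X, V')
  have : Nonempty V' := ⟨⟨x, hxV'⟩⟩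
  obtain ⟨κ, hκ⟩ : ∃ κ : CommRingCat.of k ⟶ R, Spec.map κ = hV'.fromSpec ≫ f :=
    ⟨Spec.preimage _, Spec.map_preimage _⟩
  letI : Algebra k R := κ.hom.toAlgebra
  have hft : Algebra.FiniteType k R := by
    have : LocallyOfFiniteType (Spec.map κ) := hκ ▸ inferInstance
    exact (HasRingHomProperty.Spec_iff (P := @LocallyOfFiniteType)).1 this
  obtain ⟨n, π, hπ⟩ := Algebra.FiniteType.iff_quotient_mvPolynomial''.1 hft
  have : (RingHom.ker π).IsPrime := RingHom.ker_isPrime π
  let A := Localization.AtPrime (RingHom.ker π)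
  let K := IsLocalRing.ResidueField A
  let e : MvPolynomial (Fin n) k →+* K := (IsLocalRing.residue A).comp (algebraMap _ A)
  have he : RingHom.ker π.toRingHom ≤ RingHom.ker e := fun q hq => by
    rw [RingHom.mem_ker, RingHom.comp_apply, IsLocalRing.residue_eq_zero_iff]
    exact ((IsLocalization.AtPrime.to_map_mem_maximal_iff A (RingHom.ker π) q).2 hq)
  let ρ : R ⟶ CommRingCat.of K := CommRingCat.ofHom (RingHom.liftOfSurjective π.toRingHom hπ ⟨e, he⟩)
  have hρ : ∀ q, ρ.hom (π q) = e q := fun q => RingHom.liftOfRightInverse_comp_apply _ _ _ _ q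
  letI : Algebra k A := ((algebraMap (MvPolynomial (Fin n) k) A).comp (algebraMap k _)).toAlgebra
  have hρk : κ ≫ ρ = CommRingCat.ofHom ((IsLocalRing.residue A).comp (algebraMap k A)) :=
    CommRingCat.hom_ext (RingHom.ext fun c => by
      show ρ.hom (algebraMap k R c) = _
      rw [← π.commutes c, hρ]
      rfl)
  let g : Spec (CommRingCat.of K) ⟶ (V : Scheme.{u}) :=
    Spec.map ρ ≫ hV'.isoSpec.inv ≫ X.homOfLE hle
  have hgι : g ≫ V.ι = Spec.map ρ ≫ hV'.fromSpec := by
    simp only [g, Category.assoc, X.homOfLE_ι, IsAffineOpen.isoSpec_inv_ι]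
  obtain ⟨g', hg', hg'k⟩ := hlift A g (by
    rw [← Category.assoc, hgι, Category.assoc, ← hκ, ← Spec.map_comp, hρk])
  have hr : Set.range (g' ≫ V.ι) ⊆ Set.range hV'.fromSpec := by
    rintro - ⟨p, rfl⟩
    have hp : (p : Spec (CommRingCat.of A)) ⤳ IsLocalRing.closedPoint A :=
      (PrimeSpectrum.le_iff_specializes _ _).1 (IsLocalRing.le_maximalIdeal p.2.ne_top)
    rw [hV'.range_fromSpec]
    refine V'.2.stableUnderGeneralization (hp.map (g' ≫ V.ι).continuous) ?_
    let z : Spec (CommRingCat.of K) := IsLocalRing.closedPoint _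
    have hz : Spec.map (CommRingCat.ofHom (IsLocalRing.residue A)) z = IsLocalRing.closedPoint A :=
      IsLocalRing.comap_closedPoint (IsLocalRing.residue A)
    rw [← hz, ← Scheme.Hom.comp_apply, ← Category.assoc, hg', hgι, Scheme.Hom.comp_apply]
    exact (hV'.range_fromSpec.le ⟨_, rfl⟩)
  obtain ⟨ψ, hψ⟩ : ∃ ψ : R ⟶ CommRingCat.of A, Spec.map ψ ≫ hV'.fromSpec = g' ≫ V.ι :=
    ⟨Spec.preimage (IsOpenImmersion.lift hV'.fromSpec _ hr), by rw [Spec.map_preimage, IsOpenImmersion.lift_fac]⟩
  have hψk : κ ≫ ψ = CommRingCat.ofHom (algebraMap k A) := Spec.map_injective (by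
    rw [Spec.map_comp, hκ, reassoc_of% hψ, hg'k])
  have hψρ : ψ ≫ CommRingCat.ofHom (IsLocalRing.residue A) = ρ := Spec.map_injective (by
    rw [← cancel_mono hV'.fromSpec, Spec.map_comp, Category.assoc, hψ, ← hgι, reassoc_of% hg'])
  obtain ⟨s, φ, hs, hφk, hφ⟩ := exists_away_section π hπ ψ.hom (fun c => congrArg (fun q => q.hom c) hψk)
    (fun p => (congrArg (fun q => q.hom (π p)) hψρ).trans (hρ p))
  let P := MvPolynomial (Fin n) k
  let U : X.Opens := X.basicOpen (π s)
  have hUle : U ≤ V' := X.basicOpen_le _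
  have hUne : (U : Set X).Nonempty := by
    rw [Set.nonempty_iff_ne_empty]
    exact fun e => hs (basicOpen_eq_bot_iff _ |>.1 (TopologicalSpace.Opens.ext e))
  let res : R ⟶ Γ(X, U) := X.presheaf.map (homOfLE hUle).op
  have hsu : IsUnit (res.hom (π s)) := RingedSpace.isUnit_res_basicOpen _ _
  let l : CommRingCat.of (Localization.Away s) ⟶ Γ(X, U) :=
    CommRingCat.ofHom (IsLocalization.Away.lift s (g := res.hom.comp π.toRingHom) (show IsUnit (res.hom (π s)) from hsu))
  let ψh : R ⟶ CommRingCat.of (Localization.Away s) := CommRingCat.ofHom φ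
  have hl : ψh ≫ l = res := CommRingCat.hom_ext
    (hφ _ res.hom l.hom hsu fun p => IsLocalization.Away.lift_eq s (show IsUnit ((res.hom.comp π.toRingHom) s) from hsu) p)
  let C : CommRingCat.of k ⟶ CommRingCat.of P := CommRingCat.ofHom (algebraMap k P)
  let loc : CommRingCat.of P ⟶ CommRingCat.of (Localization.Away s) :=
    CommRingCat.ofHom (algebraMap P (Localization.Away s))
  let j := Spec.map loc
  have : IsOpenImmersion j := IsOpenImmersion.of_isLocalization s
  have hC : C ≫ loc = κ ≫ ψh := CommRingCat.hom_ext (RingHom.ext fun c => (hφk c).symm)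
  let b₀ : Spec (CommRingCat.of (Localization.Away s)) ⟶ X := Spec.map ψh ≫ hV'.fromSpec
  have hU : IsAffineOpen U := hV'.basicOpen (π s)
  let a₀ : (U : Scheme.{u}) ⟶ Spec (CommRingCat.of (Localization.Away s)) := hU.isoSpec.hom ≫ Spec.map l
  have hab : a₀ ≫ b₀ = U.ι := by
    simp only [a₀, b₀, Category.assoc]
    rw [← Spec.map_comp_assoc, hl, IsAffineOpen.map_fromSpec hV' hU (homOfLE hUle).op,
      IsAffineOpen.isoSpec_hom_fromSpec]
  have hb₀ : b₀ ≫ f = j ≫ Spec.map C := by
    rw [Category.assoc, ← hκ, ← Spec.map_comp, ← hC, Spec.map_comp]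
  let W := b₀ ⁻¹ᵁ U
  let Y := j ''ᵁ W
  have hinv : (j.isoImage W).inv ≫ W.ι ≫ j = Y.ι := by rw [Scheme.Hom.isoImage_inv_ι]
  have ha₀ : Set.range a₀ ⊆ Set.range W.ι := by
    rintro - ⟨y, rfl⟩
    rw [Scheme.Opens.range_ι]
    show b₀ (a₀ y) ∈ U
    rw [← Scheme.Hom.comp_apply, hab]
    exact y.2
  have hW : Set.range (W.ι ≫ b₀) ⊆ Set.range U.ι := by
    rintro - ⟨y, rfl⟩
    rw [Scheme.Opens.range_ι]
    exact y.2
  refine ⟨U, n, Y, IsOpenImmersion.lift W.ι a₀ ha₀ ≫ (j.isoImage W).hom,
    (j.isoImage W).inv ≫ IsOpenImmersion.lift U.ι _ hW, hUne, ?_, ?_, ?_⟩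
  · rw [← cancel_mono U.ι]
    simp only [Category.assoc, Iso.hom_inv_id_assoc, IsOpenImmersion.lift_fac, Category.id_comp]
    rw [IsOpenImmersion.lift_fac_assoc, hab]
  · rw [← hinv]
    simp only [Category.assoc, Iso.hom_inv_id_assoc]
    rw [IsOpenImmersion.lift_fac_assoc, ← hb₀, reassoc_of% hab]
  · rw [← hinv]
    simp only [Category.assoc, IsOpenImmersion.lift_fac_assoc]
    rw [hb₀]

end Groth.L09.RatLift
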